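import Mathlib.Algebra.Group.ForwardDiff
import Mathlib.Analysis.SpecialFunctions.Choose
import Mathlib.Order.Filter.AtTopBot.Archimedean

/-! # Asymptotics of a function with eventually constant iterated difference -/

set_option autoImplicit false

open Filter Asymptotics fwdDiff Topology

namespace Groth.Agent.SamuelKoszul

theorem tendsto_choose_div_pow (k r : ℕ) (hk : k ≤ r) :
    Tendsto (fun n : ℕ => (n.choose k : ℝ) / (n : ℝ) ^ r) atTop
      (𝓝 (if k = r then ((r.factorial : ℝ))⁻¹ else 0)) := by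
  have h1 : Tendsto (fun n : ℕ => (n.choose k : ℝ) / ((n : ℝ) ^ k / k.factorial)) atTop (𝓝 1) := by
    refine (isEquivalent_iff_tendsto_one ?_).1 (isEquivalent_choose k)
    filter_upwards [eventually_gt_atTop 0] with n hn
    have : (0 : ℝ) < n := Nat.cast_pos.2 hn
    positivity
  by_cases h : k = r
  · subst h
    rw [if_pos rfl]
    have h2 := h1.div_const (k.factorial : ℝ)
    rw [one_div] at h2
    refine h2.congr fun n => ?_
    rw [div_div, div_mul_cancel₀ _ (Nat.cast_ne_zero.2 k.factorial_ne_zero)]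
  · rw [if_neg h]
    have hlt : 0 < r - k := by omega
    have h3 : Tendsto (fun n : ℕ => ((n : ℝ) ^ (r - k))⁻¹) atTop (𝓝 0) :=
      tendsto_inv_atTop_zero.comp ((tendsto_pow_atTop hlt.ne').comp tendsto_natCast_atTop_atTop)
    have h2 := (h1.div_const (k.factorial : ℝ)).mul h3
    rw [mul_zero] at h2
    refine h2.congr' ?_
    filter_upwards [eventually_gt_atTop 0] with n hn
    rw [div_div, div_mul_cancel₀ _ (Nat.cast_ne_zero.2 k.factorial_ne_zero), ← div_eq_mul_inv, div_div,
      ← pow_add, Nat.add_sub_cancel' hk]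

theorem iter_eventually {L : ℕ → ℤ} {r T : ℕ} {c : ℤ} (h : ∀ t, T ≤ t → Δ_[1]^[r] L t = c) :
    ∀ k, r < k → Δ_[1]^[k] L T = 0 := by
  have : ∀ j t, T ≤ t → Δ_[1]^[r + 1 + j] L t = 0 := by
    intro j
    induction j with
    | zero =>
      intro t ht
      rw [Nat.add_zero, Function.iterate_succ_apply', fwdDiff, h t ht, h (t + 1) (by omega), sub_self]
    | succ j ih =>
      intro t ht
      rw [← Nat.add_assoc, Function.iterate_succ_apply', fwdDiff, ih t ht, ih (t + 1) (by omega), sub_self]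
  intro k hk
  obtain ⟨j, rfl⟩ : ∃ j, k = r + 1 + j := ⟨k - (r + 1), by omega⟩
  exact this j T le_rfl

/-- A function whose `r`-th difference is eventually `c` grows like `c t^r / r!`. -/
theorem tendsto_of_fwdDiff {L : ℕ → ℤ} {r T : ℕ} {c : ℤ} (h : ∀ t, T ≤ t → Δ_[1]^[r] L t = c) :
    Tendsto (fun t : ℕ => (r.factorial : ℝ) * (L t : ℝ) / (t : ℝ) ^ r) atTop (𝓝 (c : ℝ)) := by
  have hz := iter_eventually h
  have hsum : ∀ n, L (T + n) = ∑ k ∈ Finset.range (r + 1), (n.choose k : ℤ) * Δ_[1]^[k] L T := by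
    intro n
    have h1 := shift_eq_sum_fwdDiff_iter (h := 1) L n T
    simp only [smul_eq_mul, mul_one] at h1
    rw [h1]
    simp only [nsmul_eq_mul]
    rw [Finset.sum_subset (Finset.range_subset_range.2 (le_max_left (n + 1) (r + 1))) (fun k _ hk => by
        rw [Finset.mem_range, not_lt] at hk
        rw [Nat.choose_eq_zero_of_lt (by omega), Nat.cast_zero, zero_mul]),
      ← Finset.sum_subset (Finset.range_subset_range.2 (le_max_right (n + 1) (r + 1))) (fun k _ hk => by
        rw [Finset.mem_range, not_lt] at hk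
        rw [hz k (by omega), mul_zero])]
  rw [← tendsto_add_atTop_iff_nat T]
  have h1 : Tendsto (fun n : ℕ => ∑ k ∈ Finset.range (r + 1),
      ((Δ_[1]^[k] L T : ℤ) : ℝ) * ((n.choose k : ℝ) / (n : ℝ) ^ r)) atTop
      (𝓝 (∑ k ∈ Finset.range (r + 1), ((Δ_[1]^[k] L T : ℤ) : ℝ) * (if k = r then ((r.factorial : ℝ))⁻¹ else 0))) :=
    tendsto_finsetSum _ fun k hk =>
      (tendsto_choose_div_pow k r (by rw [Finset.mem_range] at hk; omega)).const_mul _
  have hlim : (∑ k ∈ Finset.range (r + 1), ((Δ_[1]^[k] L T : ℤ) : ℝ) * (if k = r then ((r.factorial : ℝ))⁻¹ else 0)) =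
      (c : ℝ) * ((r.factorial : ℝ))⁻¹ := by
    rw [Finset.sum_eq_single r (fun k _ hk => by rw [if_neg hk, mul_zero])
      (fun hr => absurd (Finset.mem_range.2 (Nat.lt_succ_self r)) hr), if_pos rfl, h T le_rfl]
  rw [hlim] at h1
  have hratio : Tendsto (fun n : ℕ => ((n : ℝ) / ((n + T : ℕ) : ℝ)) ^ r) atTop (𝓝 (1 ^ r)) := by
    refine Tendsto.pow ?_ r
    have := tendsto_natCast_div_add_atTop (T : ℝ)
    refine this.congr fun n => ?_
    rw [Nat.cast_add]
  have h2 := (h1.mul hratio).const_mul (r.factorial : ℝ)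
  rw [one_pow, mul_one, mul_left_comm, mul_inv_cancel₀ (Nat.cast_ne_zero.2 r.factorial_ne_zero), mul_one] at h2
  refine h2.congr' ?_
  filter_upwards [eventually_gt_atTop 0] with n hn
  have hn' : (n : ℝ) ^ r ≠ 0 := pow_ne_zero _ (Nat.cast_ne_zero.2 hn.ne')
  rw [Nat.add_comm n T, hsum n, Int.cast_sum, div_pow, Finset.sum_mul, mul_div_assoc, div_eq_mul_inv (∑ k ∈ _, _), Finset.sum_mul]
  congr 1
  refine Finset.sum_congr rfl fun k _ => ?_
  push_cast
  field_simp

end Groth.Agent.SamuelKoszul
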