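import Groth.Agent.H1KoszulEuler.Chi
import Groth.Agent.H1KoszulEuler.Final
import Groth.Agent.SamuelKoszul.Diff
import Mathlib

/-! # The Samuel function and the Koszul Euler characteristic -/

set_option autoImplicit false
set_option maxHeartbeats 1000000
set_option linter.style.haveILetI false
set_option backward.isDefEq.respectTransparency false
set_option backward.isDefEq.respectTransparency.types false

universe u

open CategoryTheory CochainComplex Groth.Agent.H1KoszulEuler IsLocalRing fwdDiff Filter Topology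

namespace Groth.Agent.SamuelKoszul

variable {A : Type u} [CommRing A] (M : Type u) [AddCommGroup M] [Module A M]

/-- The Koszul complex with coefficients in `M`. -/
noncomputable abbrev K (l : List A) : CochainComplex (ModuleCat.{u} A) ℤ := CohIII.koszulCx (ModuleCat.of A M) l

section Cone

variable (f : A) (l : List A) (n : ℤ)

/-- The two components of the cone. -/
noncomputable def toPair : (K M (f :: l)).X n →ₗ[A] (K M l).X (n + 1) × (K M l).X n :=
  ((mappingCone.fst (f • 𝟙 (K M l))).1.v n (n + 1) rfl).hom.prod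
    ((mappingCone.snd (f • 𝟙 (K M l))).v n n (add_zero n)).hom

theorem toPair_inl (a : (K M l).X (n + 1)) :
    toPair M f l n ((mappingCone.inl (f • 𝟙 (K M l))).v (n + 1) n (by omega) a) = (a, 0) :=
  Prod.ext (ConcreteCategory.congr_hom (mappingCone.inl_v_fst_v (f • 𝟙 (K M l)) (n + 1) n rfl) a)
    (ConcreteCategory.congr_hom (mappingCone.inl_v_snd_v (f • 𝟙 (K M l)) (n + 1) n (by omega)) a)

theorem toPair_inr (b : (K M l).X n) :
    toPair M f l n ((mappingCone.inr (f • 𝟙 (K M l))).f n b) = (0, b) :=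
  Prod.ext (ConcreteCategory.congr_hom (mappingCone.inr_f_fst_v (f • 𝟙 (K M l)) n (n + 1) rfl) b)
    (ConcreteCategory.congr_hom (mappingCone.inr_f_snd_v (f • 𝟙 (K M l)) n) b)

theorem toPair_injective : Function.Injective (toPair M f l n) := fun _ _ h =>
  Koszul15.cone_ext f l (congrArg Prod.fst h) (congrArg Prod.snd h)

/-- The recomposition. -/
theorem eq_inl_add_inr (z : (K M (f :: l)).X n) :
    z = (mappingCone.inl (f • 𝟙 (K M l))).v (n + 1) n (by omega) (toPair M f l n z).1 +
      (mappingCone.inr (f • 𝟙 (K M l))).f n (toPair M f l n z).2 := by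
  apply toPair_injective
  rw [map_add]
  refine (Eq.trans ?_ (congrArg₂ (· + ·) (toPair_inl M f l n _).symm (toPair_inr M f l n _).symm))
  simp

theorem toPair_surjective : Function.Surjective (toPair M f l n) := fun ⟨a, b⟩ =>
  ⟨(mappingCone.inl (f • 𝟙 (K M l))).v (n + 1) n (by omega) a + (mappingCone.inr (f • 𝟙 (K M l))).f n b, by
    rw [map_add]
    refine (congrArg₂ (· + ·) (toPair_inl M f l n a) (toPair_inr M f l n b)).trans ?_
    simp⟩

theorem mem_smul_top_iff (J : Ideal A) (z : (K M (f :: l)).X n) :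
    z ∈ J • (⊤ : Submodule A ((K M (f :: l)).X n)) ↔
      (toPair M f l n z).1 ∈ J • (⊤ : Submodule A ((K M l).X (n + 1))) ∧
        (toPair M f l n z).2 ∈ J • (⊤ : Submodule A ((K M l).X n)) := by
  constructor
  · intro hz
    exact ⟨Submodule.smul_top_le_comap_smul_top J (LinearMap.fst A _ _ ∘ₗ toPair M f l n) hz,
      Submodule.smul_top_le_comap_smul_top J (LinearMap.snd A _ _ ∘ₗ toPair M f l n) hz⟩
  · rintro ⟨h1, h2⟩
    rw [eq_inl_add_inr M f l n z]
    exact add_mem (Submodule.smul_top_le_comap_smul_top J ((mappingCone.inl (f • 𝟙 (K M l))).v (n + 1) n (by omega)).hom h1)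
      (Submodule.smul_top_le_comap_smul_top J ((mappingCone.inr (f • 𝟙 (K M l))).f n).hom h2)

/-- The quotient of a cone by `J`. -/
noncomputable def quotEquiv (J : Ideal A) :
    ((K M (f :: l)).X n ⧸ (J • ⊤ : Submodule A ((K M (f :: l)).X n))) ≃ₗ[A]
      ((K M l).X (n + 1) ⧸ (J • ⊤ : Submodule A ((K M l).X (n + 1)))) ×
        ((K M l).X n ⧸ (J • ⊤ : Submodule A ((K M l).X n))) :=
  let φ := ((Submodule.mkQ (J • ⊤ : Submodule A ((K M l).X (n + 1)))).prodMap
    (Submodule.mkQ (J • ⊤ : Submodule A ((K M l).X n)))) ∘ₗ toPair M f l n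
  (Submodule.quotEquivOfEq _ (LinearMap.ker φ) (by
    ext z
    rw [mem_smul_top_iff, LinearMap.mem_ker]
    simp [φ, Prod.ext_iff])).trans
    (φ.quotKerEquivOfSurjective (((Submodule.mkQ_surjective _).prodMap (Submodule.mkQ_surjective _)).comp
      (toPair_surjective M f l n)))

end Cone

/-- The differentials have image in `I K`. -/
theorem d_mem {I : Ideal A} : ∀ (l : List A), (∀ f ∈ l, f ∈ I) → ∀ (n : ℤ) (z : (K M l).X n),
    (K M l).d n (n + 1) z ∈ I • (⊤ : Submodule A ((K M l).X (n + 1)))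
  | [], _, n, z => by
    rw [show (K M ([] : List A)).d n (n + 1) = 0 from HomologicalComplex.single_obj_d ..]
    exact zero_mem _
  | f :: l, hl, n, z => by
    have ih := d_mem l (fun g hg => hl g (List.mem_cons_of_mem f hg))
    have h1 := ConcreteCategory.congr_hom (mappingCone.d_fst_v (f • 𝟙 (K M l)) n (n + 1) (n + 1 + 1) rfl rfl) z
    have h2 := ConcreteCategory.congr_hom (mappingCone.d_snd_v (f • 𝟙 (K M l)) n (n + 1) rfl) z
    rw [mem_smul_top_iff]
    constructor
    · refine (congrArg (· ∈ _) h1).mpr ?_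
      exact neg_mem (ih (n + 1) _)
    · refine (congrArg (· ∈ _) h2).mpr ?_
      refine add_mem ?_ (ih n _)
      exact Submodule.smul_mem_smul (hl f List.mem_cons_self) Submodule.mem_top

/-- The graded pieces `K_n / I^m K_n`. -/
noncomputable def qlen (l : List A) (n : ℤ) (J : Ideal A) : ℕ :=
  len A ((K M l).X n ⧸ (J • ⊤ : Submodule A ((K M l).X n)))

variable (I : Ideal A)

/-- The length function `t ↦ length (M / I^t M)`. -/
noncomputable def L (t : ℕ) : ℤ := (len A (M ⧸ (I ^ t • ⊤ : Submodule A M)) : ℤ)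

/-- The alternating sum of the lengths of the quotient Koszul complex. -/
noncomputable def g (l : List A) (t : ℕ) : ℤ :=
  ∑ᶠ n : ℤ, sgn n * (qlen M l n (I ^ ((t : ℤ) + n).toNat) : ℤ)

theorem qlen_eq_zero (l : List A) (n : ℤ) (J : Ideal A) (hn : 0 < n ∨ n < -(l.length : ℤ)) :
    qlen M l n J = 0 := by
  haveI := ModuleCat.subsingleton_of_isZero (Koszul15.isZero_X (ModuleCat.of A M) l n hn)
  exact len_subsingleton _

theorem finite_support (F : ℤ → ℤ) (a b : ℤ) (h : ∀ n, (n < a ∨ b < n) → F n = 0) : (Function.support F).Finite :=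
  (Set.finite_Icc a b).subset fun n hn => by
    rw [Set.mem_Icc]
    by_contra hc
    exact hn (h n (by omega))

theorem fl_quot (hI : ∀ t, IsFiniteLength A (M ⧸ (I ^ t • ⊤ : Submodule A M))) :
    ∀ (l : List A) (n : ℤ) (t : ℕ), IsFiniteLength A ((K M l).X n ⧸ (I ^ t • ⊤ : Submodule A ((K M l).X n)))
  | [], n, t => by
    by_cases h : n = 0
    · subst h
      let e := (HomologicalComplex.singleObjXSelf (ComplexShape.up ℤ) 0 (ModuleCat.of A M)).toLinearEquiv
      refine fl_of_surjective (Submodule.mapQ _ _ e.symm.toLinearMap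
        (Submodule.smul_top_le_comap_smul_top _ _)) ?_ (hI t)
      rintro ⟨z⟩
      exact ⟨Submodule.Quotient.mk (e z), congrArg Submodule.Quotient.mk (e.symm_apply_apply z)⟩
    · haveI := ModuleCat.subsingleton_of_isZero (Koszul15.isZero_X (ModuleCat.of A M) ([] : List A) n
        (by simp only [List.length_nil, Nat.cast_zero, neg_zero]; omega))
      exact IsFiniteLength.of_subsingleton
  | f :: l, n, t => by
    have h1 := fl_quot hI l (n + 1) t
    have h2 := fl_quot hI l n t
    rw [isFiniteLength_iff_isNoetherian_isArtinian] at h1 h2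
    obtain ⟨_, _⟩ := h1
    obtain ⟨_, _⟩ := h2
    refine fl_of_surjective _ (quotEquiv M f l n (I ^ t)).symm.surjective ?_
    rw [isFiniteLength_iff_isNoetherian_isArtinian]
    exact ⟨inferInstance, inferInstance⟩

theorem qlen_cons (hI : ∀ t, IsFiniteLength A (M ⧸ (I ^ t • ⊤ : Submodule A M))) (f : A) (l : List A) (n : ℤ) (t : ℕ) :
    qlen M (f :: l) n (I ^ t) = qlen M l (n + 1) (I ^ t) + qlen M l n (I ^ t) := by
  unfold qlen
  rw [len_congr (quotEquiv M f l n (I ^ t)), len, Module.length_prod, ENat.toNat_add]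
  · rfl
  · exact Module.length_ne_top_iff.2 (fl_quot M I hI l (n + 1) t)
  · exact Module.length_ne_top_iff.2 (fl_quot M I hI l n t)

theorem g_nil (t : ℕ) : g M I [] t = L M I t := by
  unfold g
  rw [finsum_eq_single _ 0 fun n hn => by
    rw [qlen_eq_zero M [] n _ (by simp only [List.length_nil, Nat.cast_zero, neg_zero]; omega)]; simp]
  simp only [sgn, Int.negOnePow_zero, Units.val_one, one_mul, add_zero, Int.toNat_natCast, L, qlen]
  let e := (HomologicalComplex.singleObjXSelf (ComplexShape.up ℤ) 0 (ModuleCat.of A M)).toLinearEquiv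
  refine congrArg Nat.cast (len_congr (Submodule.Quotient.equiv _ _ e ?_))
  rw [Submodule.map_smul'', Submodule.map_top, LinearEquiv.range]
  rfl

theorem g_cons (hI : ∀ t, IsFiniteLength A (M ⧸ (I ^ t • ⊤ : Submodule A M))) (f : A) (l : List A) (t : ℕ) :
    g M I (f :: l) (t + 1) = g M I l (t + 1) - g M I l t := by
  unfold g
  have e : ∀ n : ℤ, sgn n * (qlen M (f :: l) n (I ^ (((t + 1 : ℕ) : ℤ) + n).toNat) : ℤ) =
      sgn n * (qlen M l n (I ^ (((t + 1 : ℕ) : ℤ) + n).toNat) : ℤ) -
        sgn (n + 1) * (qlen M l (n + 1) (I ^ ((t : ℤ) + (n + 1)).toNat) : ℤ) := fun n => by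
    rw [qlen_cons M I hI, sgn_add_one, show ((t : ℤ) + (n + 1)).toNat = (((t + 1 : ℕ) : ℤ) + n).toNat by omega]
    push_cast
    ring
  rw [finsum_congr e, finsum_sub_distrib
    (finite_support _ (-(l.length : ℤ)) 0 fun n hn => by rw [qlen_eq_zero M l n _ (by omega)]; simp)
    (finite_support _ (-(l.length : ℤ) - 1) (-1) fun n hn => by rw [qlen_eq_zero M l (n + 1) _ (by omega)]; simp)]
  congr 1
  exact finsum_comp_equiv (Equiv.addRight (1 : ℤ))
    (f := fun n => sgn n * (qlen M l n (I ^ ((t : ℤ) + n).toNat) : ℤ))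

theorem g_eq_fwdDiff (hI : ∀ t, IsFiniteLength A (M ⧸ (I ^ t • ⊤ : Submodule A M))) :
    ∀ (l : List A) (t : ℕ), g M I l (t + l.length) = (fwdDiff 1)^[l.length] (L M I) t
  | [], t => by simpa using g_nil M I t
  | f :: l, t => by
    rw [List.length_cons, Function.iterate_succ_apply', fwdDiff, ← g_eq_fwdDiff hI l t,
      ← g_eq_fwdDiff hI l (t + 1), ← Nat.add_assoc, g_cons M I hI]
    rw [show t + l.length + 1 = t + 1 + l.length by omega]

section Acyclic

variable (l : List A)

/-- Cycles. -/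
noncomputable abbrev Z (n : ℤ) : Submodule A ((K M l).X n) := LinearMap.ker ((K M l).d n (n + 1)).hom

variable [IsNoetherianRing A] [Module.Finite A M]

theorem eventually_acyclic (n : ℤ) : ∀ᶠ t : ℕ in atTop, ∀ z : (K M l).X n,
    z ∈ (Ideal.ofList l ^ ((t : ℤ) + n).toNat • ⊤ : Submodule A ((K M l).X n)) → z ∈ Z M l n →
    ∃ w ∈ (Ideal.ofList l ^ ((t : ℤ) + (n - 1)).toNat • ⊤ : Submodule A ((K M l).X (n - 1))),
      (K M l).d (n - 1) n w = z := by
  haveI := finite_X M l n
  obtain ⟨k, hk⟩ := Ideal.exists_pow_inf_eq_pow_smul (Ideal.ofList l) (Z M l n)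
  filter_upwards [eventually_ge_atTop ((k + 1 : ℤ) - n).toNat] with t ht z hz hzZ
  obtain ⟨m, hm⟩ : ∃ m, ((t : ℤ) + n).toNat = m + 1 ∧ k ≤ m := ⟨((t : ℤ) + n).toNat - 1, by omega⟩
  have h1 : z ∈ Ideal.ofList l • ((Ideal.ofList l ^ m • ⊤ : Submodule A ((K M l).X n)) ⊓ Z M l n) := by
    rw [hk m hm.2, ← Submodule.mul_smul, ← pow_succ', show m - k + 1 = m + 1 - k by omega, ← hk (m + 1) (by omega)]
    exact ⟨hm.1 ▸ hz, hzZ⟩
  rw [show ((t : ℤ) + (n - 1)).toNat = m by omega]
  refine Submodule.smul_induction_on h1 (fun b hb y hy => ?_) (fun a c ha hc => ?_)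
  · obtain ⟨hym, hyZ⟩ := hy
    obtain ⟨H⟩ := Koszul15.homotopy_of_mem (ModuleCat.of A M) l b hb
    refine ⟨(H.hom n (n - 1)) y, Submodule.smul_top_le_comap_smul_top _ (H.hom n (n - 1)).hom hym, ?_⟩
    have hc := ConcreteCategory.congr_hom (H.comm n) y
    rw [dNext_eq H.hom (show (ComplexShape.up ℤ).Rel n (n + 1) from rfl),
      prevD_eq H.hom (show (ComplexShape.up ℤ).Rel (n - 1) n from by simp)] at hc
    have hy0 : ((K M l).d n (n + 1)).hom y = 0 := hyZ
    refine Eq.trans ?_ hc.symm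
    simp [hy0]
  · obtain ⟨a', ha', ea⟩ := ha
    obtain ⟨c', hc', ec⟩ := hc
    exact ⟨a' + c', add_mem ha' hc', by rw [map_add, ea, ec]⟩

theorem eventually_acyclic_all : ∀ᶠ t : ℕ in atTop, ∀ (n : ℤ) (z : (K M l).X n),
    z ∈ (Ideal.ofList l ^ ((t : ℤ) + n).toNat • ⊤ : Submodule A ((K M l).X n)) → z ∈ Z M l n →
    ∃ w ∈ (Ideal.ofList l ^ ((t : ℤ) + (n - 1)).toNat • ⊤ : Submodule A ((K M l).X (n - 1))),
      (K M l).d (n - 1) n w = z := by
  have h := (Finset.eventually_all (Finset.Icc (-(l.length : ℤ)) 0)).2 fun n _ => eventually_acyclic M l n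
  filter_upwards [h] with t ht n z hz hzZ
  by_cases hn : n ∈ Finset.Icc (-(l.length : ℤ)) 0
  · exact ht n hn z hz hzZ
  · rw [Finset.mem_Icc] at hn
    haveI := ModuleCat.subsingleton_of_isZero (Koszul15.isZero_X (ModuleCat.of A M) l n (by omega))
    exact ⟨0, zero_mem _, Subsingleton.elim _ _⟩

end Acyclic

section Euler

variable [IsNoetherianRing A] [IsLocalRing A] [Module.Finite A M] (l : List A)

theorem chi_eq_g (hI : ∀ t, IsFiniteLength A (M ⧸ (Ideal.ofList l ^ t • ⊤ : Submodule A M))) :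
    ∀ᶠ t : ℕ in atTop, g M (Ideal.ofList l) l t = chi l M := by
  filter_upwards [eventually_acyclic_all M l] with t hac
  let S : ∀ n : ℤ, Submodule A ((K M l).X n) := fun n => Ideal.ofList l ^ ((t : ℤ) + n).toNat • ⊤
  let dl : ∀ n : ℤ, (K M l).X n →ₗ[A] (K M l).X (n + 1) := fun n => ((K M l).d n (n + 1)).hom
  let dp : ∀ n : ℤ, (K M l).X (n - 1) →ₗ[A] (K M l).X n := fun n => ((K M l).d (n - 1) n).hom
  -- boundaries modulo the filtration
  let b : ℤ → ℕ := fun n => len A ((LinearMap.range (dp n)).map (S n).mkQ)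
  have hS : ∀ n, S n ≤ (S (n + 1)).comap (dl n) := fun n => by
    have hsub : ∀ a, a ∈ S n → dl n a ∈ S (n + 1) := fun a ha => by
      refine Submodule.smul_induction_on (p := fun a => dl n a ∈ S (n + 1)) ha (fun c hc y _ => ?_)
        (fun a c ha hc => by rw [map_add]; exact add_mem ha hc)
      rw [map_smul]
      by_cases hneg : 0 ≤ (t : ℤ) + n
      · show c • dl n y ∈ Ideal.ofList l ^ ((t : ℤ) + (n + 1)).toNat • (⊤ : Submodule A _)
        rw [show ((t : ℤ) + (n + 1)).toNat = ((t : ℤ) + n).toNat + 1 by omega, pow_succ, Submodule.mul_smul]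
        exact Submodule.smul_mem_smul hc (d_mem M l (fun f hf => Ideal.subset_span hf) n y)
      · show c • dl n y ∈ Ideal.ofList l ^ ((t : ℤ) + (n + 1)).toNat • (⊤ : Submodule A _)
        rw [show ((t : ℤ) + (n + 1)).toNat = 0 by omega, pow_zero, Ideal.one_eq_top, Submodule.top_smul]
        trivial
    exact hsub
  have key : ∀ n : ℤ, qlen M l n (Ideal.ofList l ^ ((t : ℤ) + n).toNat) = b n + hl l M n + b (n + 1) := by
    intro n
    let dbar : ((K M l).X n ⧸ S n) →ₗ[A] ((K M l).X (n + 1) ⧸ S (n + 1)) := Submodule.mapQ _ _ (dl n) (hS n)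
    have hfl := fl_quot M (Ideal.ofList l) hI l n ((t : ℤ) + n).toNat
    have h1 : len A ((K M l).X n ⧸ S n) = len A (LinearMap.ker dbar) + len A (LinearMap.range dbar) := by
      rw [len_range_add_range (LinearMap.ker dbar).subtype dbar (LinearMap.exact_subtype_ker_map dbar) hfl,
        len_range_of_injective _ (Submodule.injective_subtype _)]
    have h2 : len A (LinearMap.range dbar) = b (n + 1) := by
      have e : n + 1 - 1 = n := add_sub_cancel_right n 1
      refine len_congr (LinearEquiv.ofEq _ _ ?_)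
      have hr : ∀ (j : ℤ), j = n → (LinearMap.range ((K M l).d j (n + 1)).hom) = LinearMap.range (dl n) := by
        rintro j rfl; rfl
      show LinearMap.range (Submodule.mapQ _ _ (dl n) (hS n)) = _
      rw [Submodule.range_mapQ]
      exact congrArg _ (hr _ e).symm
    -- cycles modulo the filtration
    let Zn : Submodule A ((K M l).X n) := LinearMap.ker (dl n)
    let Bn : Submodule A ((K M l).X n) := LinearMap.range (dp n)
    let φ : Zn →ₗ[A] LinearMap.ker dbar := LinearMap.codRestrict _ ((S n).mkQ ∘ₗ Zn.subtype) fun z => by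
      show Submodule.Quotient.mk (dl n z.1) = 0
      rw [show dl n z.1 = 0 from z.2]
      rfl
    have hφ : Function.Surjective φ := by
      rintro ⟨q, hq⟩
      obtain ⟨x, rfl⟩ := Submodule.Quotient.mk_surjective _ q
      have hdx : dl n x ∈ S (n + 1) := (Submodule.Quotient.mk_eq_zero _).1 hq
      obtain ⟨w, hw, hwx⟩ := hac (n + 1) (dl n x) hdx (by
        show ((K M l).d (n + 1) (n + 1 + 1)).hom ((K M l).d n (n + 1) x) = 0
        exact ConcreteCategory.congr_hom ((K M l).d_comp_d n (n + 1) (n + 1 + 1)) x)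
      have key : ∀ (j : ℤ) (w : (K M l).X j), j = n → w ∈ S j → (K M l).d j (n + 1) w = dl n x →
          ∃ s ∈ S n, dl n s = dl n x := by
        intro j v hj hv h
        subst hj
        exact ⟨v, hv, h⟩
      obtain ⟨s, hs, hds⟩ := key _ w (add_sub_cancel_right n 1) hw hwx
      refine ⟨⟨x - s, by rw [LinearMap.mem_ker, map_sub, hds, sub_self]⟩, Subtype.ext ?_⟩
      exact (Submodule.Quotient.eq _).2 (by simpa using hs)
    have hBZ : ∀ w, dp n w ∈ Zn := fun w =>
      ConcreteCategory.congr_hom ((K M l).d_comp_d (n - 1) n (n + 1)) w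
    let β : Bn →ₗ[A] Zn := Submodule.inclusion (by rintro _ ⟨w, rfl⟩; exact hBZ w)
    -- homology
    let e₁ := ((K M l).homologyIsoSc' (n - 1) n (n + 1) (by simp) (by simp) ≪≫
      ((K M l).sc' (n - 1) n (n + 1)).moduleCatHomologyIso).toLinearEquiv
    let π : Zn →ₗ[A] KH l M n := e₁.symm.toLinearMap ∘ₗ Submodule.mkQ _
    have hπ : Function.Surjective π := e₁.symm.surjective.comp (Submodule.mkQ_surjective _)
    have hπk : ∀ z : Zn, π z = 0 ↔ z.1 ∈ Bn := fun z => by
      refine e₁.symm.map_eq_zero_iff.trans ((Submodule.Quotient.mk_eq_zero _).trans ?_)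
      constructor
      · rintro ⟨w, hw⟩
        exact ⟨w, congrArg Subtype.val hw⟩
      · rintro ⟨w, hw⟩
        exact ⟨w, Subtype.ext hw⟩
    let β' : ((LinearMap.range (dp n)).map (S n).mkQ) →ₗ[A] LinearMap.ker dbar := Submodule.inclusion (by
      rintro _ ⟨_, ⟨w, rfl⟩, rfl⟩
      exact (φ ⟨dp n w, hBZ w⟩).2)
    have hker : LinearMap.ker φ ≤ LinearMap.ker π := fun z hz => (hπk z).2 (by
      have hzS : z.1 ∈ S n := (Submodule.Quotient.mk_eq_zero _).1 (congrArg Subtype.val hz)
      obtain ⟨w, -, hw⟩ := hac n z.1 hzS z.2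
      exact ⟨w, hw⟩)
    let ψ : LinearMap.ker dbar →ₗ[A] KH l M n :=
      ((LinearMap.ker φ).liftQ π hker) ∘ₗ (φ.quotKerEquivOfSurjective hφ).symm.toLinearMap
    have hψ : ∀ z, ψ (φ z) = π z := fun z => by
      show (LinearMap.ker φ).liftQ π hker ((φ.quotKerEquivOfSurjective hφ).symm (φ z)) = π z
      rw [show (φ.quotKerEquivOfSurjective hφ).symm (φ z) = Submodule.Quotient.mk z from
        (φ.quotKerEquivOfSurjective hφ).symm_apply_apply (Submodule.Quotient.mk z)]
      rfl
    have hψs : Function.Surjective ψ := fun h => by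
      obtain ⟨z, rfl⟩ := hπ h
      exact ⟨φ z, hψ z⟩
    have hex : Function.Exact β' ψ := fun q => by
      obtain ⟨z, rfl⟩ := hφ q
      rw [hψ, hπk]
      constructor
      · intro hz
        exact ⟨⟨_, ⟨z.1, hz, rfl⟩⟩, rfl⟩
      · rintro ⟨⟨_, ⟨y, hy, rfl⟩⟩, hq⟩
        have hs : z.1 - y ∈ S n := (Submodule.Quotient.eq _).1 (congrArg Subtype.val hq).symm
        obtain ⟨w, rfl⟩ := hy
        obtain ⟨w', -, hw'⟩ := hac n _ hs (sub_mem z.2 (hBZ w))
        exact ⟨w + w', by rw [map_add, show dp n w' = z.1 - dp n w from hw']; abel⟩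
    have h3 : len A (LinearMap.ker dbar) = b n + hl l M n := by
      rw [len_range_add_range β' ψ hex (fl_of_injective _ (Submodule.injective_subtype _) hfl),
        len_range_of_injective β' (Submodule.inclusion_injective _), len_range_of_surjective ψ hψs]
      rfl
    show len A ((K M l).X n ⧸ S n) = _
    rw [h1, h2, h3]
  have hb0 : ∀ n : ℤ, (0 < n ∨ n < -(l.length : ℤ)) → b n = 0 := fun n hn => by
    haveI := ModuleCat.subsingleton_of_isZero (Koszul15.isZero_X (ModuleCat.of A M) l n hn)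
    exact len_subsingleton _
  have hfb := finite_support (fun n => sgn n * (b n : ℤ)) (-(l.length : ℤ)) 0 fun n hn => by
    rw [hb0 n (by omega)]; simp
  have hfb1 := finite_support (fun n => sgn n * (b (n + 1) : ℤ)) (-(l.length : ℤ) - 1) 0 fun n hn => by
    rw [hb0 (n + 1) (by omega)]; simp
  have hfh : (Function.support fun n => sgn n * (hl l M n : ℤ)).Finite :=
    finite_support _ (-(l.length : ℤ)) 0 fun n hn => by rw [hl_eq_zero l M n (by omega)]; simp
  have hshift : ∑ᶠ n : ℤ, sgn n * (b (n + 1) : ℤ) = -∑ᶠ n : ℤ, sgn n * (b n : ℤ) := by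
    rw [← finsum_neg_distrib, ← finsum_comp_equiv (Equiv.addRight (1 : ℤ)) (f := fun n => -(sgn n * (b n : ℤ)))]
    refine finsum_congr fun n => ?_
    show _ = -(sgn (n + 1) * _)
    rw [sgn_add_one, neg_mul, neg_neg]
    rfl
  unfold g
  rw [finsum_congr fun n => show sgn n * (qlen M l n (Ideal.ofList l ^ ((t : ℤ) + n).toNat) : ℤ) =
      (sgn n * (b n : ℤ) + sgn n * (hl l M n : ℤ)) + sgn n * (b (n + 1) : ℤ) by rw [key n]; push_cast; ring,
    finsum_add_distrib ((hfb.union hfh).subset (Function.support_add _ _)) hfb1, finsum_add_distrib hfb hfh, hshift]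
  show _ = ∑ᶠ q : ℤ, sgn q * (hl l M q : ℤ)
  ring

theorem fl_pow (h : IsFiniteLength A (M ⧸ (Ideal.ofList l • ⊤ : Submodule A M))) (t : ℕ) :
    IsFiniteLength A (M ⧸ (Ideal.ofList l ^ t • ⊤ : Submodule A M)) := by
  refine Module.length_ne_top_iff.1 (HSLib.length_ne_top_of_forall_isMaximal fun p hp => ?_)
  rw [Module.support_quotient] at hp
  obtain ⟨hpM, hpI⟩ := hp
  refine HSLib.isMaximal_of_isFiniteLength h (p := p) ?_
  rw [Module.support_quotient]
  rcases Nat.eq_zero_or_pos t with rfl | ht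
  · exact absurd hpI (by simpa using p.isPrime.ne_top)
  · exact ⟨hpM, (p.isPrime.pow_le_iff ht.ne').1 hpI⟩

/-- Serre: the Samuel multiplicity is the Koszul Euler characteristic. -/
theorem tendsto_samuel (h : IsFiniteLength A (M ⧸ (Ideal.ofList l • ⊤ : Submodule A M))) :
    Tendsto (fun t : ℕ => (l.length.factorial : ℝ) *
      ((Module.length A (M ⧸ (Ideal.ofList l ^ t • ⊤ : Submodule A M))).toNat : ℝ) / (t : ℝ) ^ l.length)
      atTop (𝓝 (chi l M : ℝ)) := by
  have hI := fl_pow M l h
  obtain ⟨T, hT⟩ := eventually_atTop.1 (chi_eq_g M l hI)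
  refine (tendsto_of_fwdDiff (L := L M (Ideal.ofList l)) (r := l.length) (T := T) (c := chi l M) fun t ht => ?_).congr fun t => ?_
  · rw [← g_eq_fwdDiff M _ hI l t]
    exact hT _ (by omega)
  · simp [L, len]

end Euler

end Groth.Agent.SamuelKoszul
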