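import Groth.Prelude.Def_IntMult
import Groth.Agent.SamuelKoszul.Filtration
import Groth.Agent.H9Misc.TorBalance
import Groth.Agent.S15821
import Mathlib

/-! # `Tor` of a regular sequence is Koszul homology -/

set_option autoImplicit false
set_option maxHeartbeats 800000
set_option linter.style.haveILetI false
set_option backward.isDefEq.respectTransparency false
set_option backward.isDefEq.respectTransparency.types false

universe u

open CategoryTheory CategoryTheory.Limits MonoidalCategory CochainComplex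
open Groth.Agent.H9Misc.TorBalance Groth.Agent.KFlatLib Groth.Agent.H9Misc.DRingLTensor
open Groth.Agent.H1KoszulEuler

namespace Groth.Agent.SamuelKoszul

variable {A : Type u} [CommRing A]

theorem free_X : ∀ (l : List A) (n : ℤ), Module.Free A ((K A l).X n)
  | [], n => by
    by_cases h : n = 0
    · subst h
      exact Module.Free.of_equiv
        (HomologicalComplex.singleObjXSelf (ComplexShape.up ℤ) 0 (ModuleCat.of A A)).toLinearEquiv.symm
    · haveI : Subsingleton ((K A ([] : List A)).X n) := ModuleCat.subsingleton_of_isZero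
        (HomologicalComplex.isZero_single_obj_X (ComplexShape.up ℤ) 0 (ModuleCat.of A A) n h)
      exact Module.Free.of_subsingleton A _
  | f :: l, n => by
    haveI := free_X l (n + 1)
    haveI := free_X l n
    exact Module.Free.of_equiv
      (LinearEquiv.ofBijective (toPair A f l n) ⟨toPair_injective A f l n, toPair_surjective A f l n⟩).symm

theorem isKF_K (l : List A) : IsKF (K A l) := by
  haveI : CochainComplex.IsStrictlyLE (K A l) 0 := by
    rw [CochainComplex.isStrictlyLE_iff]
    exact fun i hi => Koszul15.isZero_X (ModuleCat.of A A) l i (Or.inl hi)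
  refine kFlat_of_termwiseFlat (b := 0) (fun n => ?_) fun i hi =>
    CochainComplex.isZero_of_isStrictlyLE _ 0 i hi
  haveI := free_X l n
  exact Module.Flat.of_free

/-- The Koszul complex of a regular sequence resolves the quotient. -/
theorem exists_quasiIso (l : List A) (hl : RingTheory.Sequence.IsWeaklyRegular A l) :
    ∃ π : K A l ⟶ sgl (ModuleCat.of A (A ⧸ Ideal.ofList l)), QuasiIso π := by
  obtain ⟨h0, ⟨e⟩⟩ := Groth.Agent.S15821.result A l hl
  rw [Groth.Agent.Synt29.koszul_eq] at e
  have hz : ∀ i : ℤ, i ≠ 0 → IsZero ((K A l).homology i) := fun i hi => by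
    have := h0 i hi
    rw [← HomologicalComplex.exactAt_iff_isZero_homology, Groth.Agent.Synt29.koszul_eq,
      HomologicalComplex.exactAt_iff_isZero_homology] at this
    exact this
  let C : DRing.Cx A := K A l
  have hd : C.d 0 1 = 0 := (Koszul15.isZero_X (ModuleCat.of A A) l 1 (Or.inl one_pos)).eq_of_tgt _ _
  haveI : IsIso (C.iCycles 0) := C.isIso_iCycles 0 1 (by simp) hd
  let f₀ : C.X 0 ⟶ ModuleCat.of A (A ⧸ Ideal.ofList l) := inv (C.iCycles 0) ≫ C.homologyπ 0 ≫ e.hom
  have hf : ∀ i : ℤ, (ComplexShape.up ℤ).Rel i 0 → C.d i 0 ≫ f₀ = 0 := fun i hi => by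
    have h1 : C.d i 0 ≫ inv (C.iCycles 0) = C.toCycles i 0 := by
      rw [IsIso.comp_inv_eq, HomologicalComplex.toCycles_i]
    rw [reassoc_of% h1, HomologicalComplex.toCycles_comp_homologyπ_assoc, zero_comp]
  let π : C ⟶ sgl (ModuleCat.of A (A ⧸ Ideal.ofList l)) := HomologicalComplex.mkHomToSingle f₀ hf
  refine ⟨π, ⟨fun i => ?_⟩⟩
  rw [quasiIsoAt_iff_isIso_homologyMap]
  by_cases hi : i = 0
  · subst hi
    let s := HomologicalComplex.singleObjHomologySelfIso (ComplexShape.up ℤ) 0 (ModuleCat.of A (A ⧸ Ideal.ofList l))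
    have key : HomologicalComplex.homologyMap π 0 ≫ s.hom = e.hom := by
      rw [← cancel_epi (C.homologyπ 0)]
      erw [HomologicalComplex.homologyπ_naturality_assoc, HomologicalComplex.homologyπ_singleObjHomologySelfIso_hom,
        HomologicalComplex.singleObjCyclesSelfIso_hom, HomologicalComplex.cyclesMap_i_assoc]
      show C.iCycles 0 ≫ π.f 0 ≫ (HomologicalComplex.singleObjXSelf (ComplexShape.up ℤ) 0 _).hom = _
      erw [HomologicalComplex.mkHomToSingle_f, Category.assoc, Iso.inv_hom_id, Category.comp_id]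
      simp [f₀]
    rw [show HomologicalComplex.homologyMap π 0 = e.hom ≫ s.inv from (Iso.comp_inv_eq s |>.2 key.symm).symm]
    infer_instance
  · have hb : IsZero ((sgl (ModuleCat.of A (A ⧸ Ideal.ofList l))).homology i) :=
      HomologicalComplex.isZero_single_obj_homology (ComplexShape.up ℤ) 0 _ i hi
    exact ⟨hb.to_ _, (hz i hi).eq_of_src _ _, hb.eq_of_src _ _⟩

/-- `Tor_n(A/(l), N)` is Koszul homology. -/
theorem nonempty_tor_iso (l : List A) (hl : RingTheory.Sequence.IsWeaklyRegular A l) (N : ModuleCat.{u} A) (n : ℕ) :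
    Nonempty (((Tor (ModuleCat.{u} A) n).obj (ModuleCat.of A (A ⧸ Ideal.ofList l))).obj N ≅
      (DRing.tensorCx (K A l) N).homology (-n : ℤ)) := by
  obtain ⟨π, hπ⟩ := exists_quasiIso l hl
  haveI := hπ
  let Q := ProjectiveResolution.of N
  let cL : ((T (A := A)).obj (K A l)).obj Q.cochainComplex ⟶
      (tensC (ModuleCat.of A (A ⧸ Ideal.ofList l))).obj Q.cochainComplex :=
    ((T (A := A)).map π).app Q.cochainComplex ≫ (sglLeftIso _).hom.app Q.cochainComplex
  let cR : ((T (A := A)).obj (K A l)).obj Q.cochainComplex ⟶ (tensC N).obj (K A l) :=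
    ((T (A := A)).obj (K A l)).map Q.π' ≫ (sglRightIso N).hom.app (K A l)
  have hL : QuasiIso cL := by
    haveI := (isKF_cochainComplex Q).quasiIso_map π
    haveI : QuasiIso ((sglLeftIso (ModuleCat.of A (A ⧸ Ideal.ofList l))).hom.app Q.cochainComplex) :=
      inferInstanceAs (QuasiIso ((sglLeftIso (ModuleCat.of A (A ⧸ Ideal.ofList l))).app Q.cochainComplex).hom)
    exact quasiIso_comp _ _
  have hR : QuasiIso cR := by
    haveI := (isKF_K l).quasiIso_map' curriedTensorFlipIso Q.π'
    haveI : QuasiIso ((sglRightIso N).hom.app (K A l)) :=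
      inferInstanceAs (QuasiIso ((sglRightIso N).app (K A l)).hom)
    exact quasiIso_comp _ _
  haveI := hL
  haveI := hR
  exact ⟨torIso _ Q n ≪≫ (isoOfQuasiIsoAt cL (-n : ℤ)).symm ≪≫ isoOfQuasiIsoAt cR (-n : ℤ)⟩

/-- The Tor formula is the Koszul Euler characteristic. -/
theorem chi_eq (l : List A) (hl : RingTheory.Sequence.IsWeaklyRegular A l) (M : Type u) [AddCommGroup M]
    [Module A M] : IntMult.chi A (A ⧸ Ideal.ofList l) M = chi l M := by
  let F : ℤ → ℤ := fun q => sgn q * (H1KoszulEuler.hl l M q : ℤ)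
  have hg : Function.Injective fun i : ℕ => -(i : ℤ) := fun a b h => by simpa using h
  have hsupp : Function.support F ⊆ Set.range fun i : ℕ => -(i : ℤ) := fun q hq => by
    by_cases h : 0 < q
    · exact absurd (show F q = 0 by simp [F, hl_eq_zero l M q (Or.inl h)]) hq
    · exact ⟨(-q).toNat, by show -(((-q).toNat : ℕ) : ℤ) = q; omega⟩
  show _ = ∑ᶠ q, F q
  have hz : ∑ᶠ q, F q = ∑ᶠ i : ℕ, F (-(i : ℤ)) := by
    rw [← finsum_mem_range hg, ← finsum_mem_univ F]
    refine finsum_mem_inter_support_eq' F _ _ fun q hq => ?_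
    exact ⟨fun _ => hsupp hq, fun _ => Set.mem_univ q⟩
  rw [hz, IntMult.chi]
  refine finsum_congr fun i => ?_
  show _ = sgn (-(i : ℤ)) * (H1KoszulEuler.hl l M (-(i : ℤ)) : ℤ)
  obtain ⟨e⟩ := nonempty_tor_iso l hl (ModuleCat.of A M) i
  obtain ⟨e'⟩ := H1KoszulEuler.nonempty_tensor_iso (ModuleCat.of A M) l
  rw [Groth.Agent.Synt29.koszul_eq] at e'
  have h1 : Module.length A (DRing.Tor A i (A ⧸ Ideal.ofList l) M) = Module.length A (KH l M (-(i : ℤ))) :=
    (e ≪≫ (HomologicalComplex.homologyFunctor _ _ (-(i : ℤ))).mapIso e').toLinearEquiv.length_eq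
  rw [h1]
  congr 1
  simp [sgn, Int.negOnePow_def]

end Groth.Agent.SamuelKoszul
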