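import Groth.Agent.SamuelKoszul.TorKoszul
import Groth.Agent.CAlgOdd.TorSymm.Main
import Mathlib

/-! # Positivity of the multiplicity for a system of parameters -/

set_option autoImplicit false
set_option linter.style.haveILetI false

universe u

open CategoryTheory Filter Topology IsLocalRing Polynomial

namespace Groth.Agent.SamuelKoszul

variable {A : Type u} [CommRing A] [IsNoetherianRing A] [IsLocalRing A]

/-- The normalised Samuel limit of a system of parameters is positive. -/
theorem limit_pos (M : Type u) [AddCommGroup M] [Module A M] [Module.Finite A M] [Nontrivial M] {c : ℕ}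
    (g : Fin c → A) (hg : ∀ i, g i ∈ maximalIdeal A)
    (hfl : IsFiniteLength A (M ⧸ (Ideal.span (Set.range g) • ⊤ : Submodule A M)))
    (hdim : (c : WithBot ℕ∞) ≤ Module.supportDim A M) {e : ℝ}
    (he : Tendsto (fun t : ℕ => (c.factorial : ℝ) *
      ((Module.length A (M ⧸ (Ideal.span (Set.range g) ^ t • ⊤ : Submodule A M))).toNat : ℝ) / (t : ℝ) ^ c)
      atTop (𝓝 e)) : 0 < e := by
  have hmax : HSLib.MaxSupp (Ideal.span (Set.range g)) M := fun p hp hle =>
    HSLib.isMaximal_of_isFiniteLength hfl (by rw [Module.support_quotient]; exact ⟨hp, hle⟩)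
  obtain ⟨R, hRd, hR⟩ := HSLib.exists_poly g (M := M) hmax
  obtain ⟨RJ, hRJ⟩ := HSLib.exists_poly_jacobson (A := A) M
  have hJ : Ideal.span (Set.range g) ≤ Ring.jacobson A := by
    rw [IsLocalRing.ringJacobson_eq_maximalIdeal]
    exact Ideal.span_le.2 (by rintro _ ⟨i, rfl⟩; exact hg i)
  have hle : RJ.natDegree ≤ R.natDegree := HSLib.natDegree_le_of_eventually_le hRJ hR
    (Eventually.of_forall fun t => by
      have h : Ideal.span (Set.range g) ^ t • (⊤ : Submodule A M) ≤ Ring.jacobson A ^ t • ⊤ :=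
        Submodule.smul_mono (Ideal.pow_right_mono hJ t) le_rfl
      exact ENat.toNat_le_toNat
        (Module.length_le_of_surjective (Submodule.factor h) (Submodule.factor_surjective h))
        (HSLib.length_quot_ne_top hmax le_rfl))
  have hdeg : R.natDegree = c := by
    refine le_antisymm hRd (le_trans ?_ hle)
    rw [← HSLib.supportDim_eq M RJ hRJ] at hdim
    exact_mod_cast hdim
  have hR0 : R ≠ 0 := by
    rintro rfl
    obtain ⟨t, ht, ht1⟩ := (hR.and (eventually_ge_atTop 1)).exists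
    have := HSLib.hs_pos hmax hJ ht1
    rw [Polynomial.eval_zero, Nat.cast_eq_zero] at ht
    omega
  set P := R.map (algebraMap ℚ ℝ) with hP
  have hPd : P.degree = ((X : ℝ[X]) ^ c).degree := by
    rw [Polynomial.degree_map, Polynomial.degree_X_pow, Polynomial.degree_eq_natDegree hR0, hdeg]
  have h1 : Tendsto (fun t : ℕ => P.eval (t : ℝ) / (t : ℝ) ^ c) atTop (𝓝 P.leadingCoeff) := by
    have := (Polynomial.div_tendsto_atTop_leadingCoeff_div_of_degree_eq P (X ^ c) hPd).comp
      tendsto_natCast_atTop_atTop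
    simpa [Function.comp_def] using this
  have h2 : Tendsto (fun t : ℕ => (c.factorial : ℝ) *
      ((Module.length A (M ⧸ (Ideal.span (Set.range g) ^ t • ⊤ : Submodule A M))).toNat : ℝ) / (t : ℝ) ^ c)
      atTop (𝓝 ((c.factorial : ℝ) * P.leadingCoeff)) := by
    refine (h1.const_mul (c.factorial : ℝ)).congr' ?_
    filter_upwards [hR] with t ht
    rw [mul_div_assoc]
    congr 2
    have := congrArg (algebraMap ℚ ℝ) ht
    rw [map_natCast] at this
    rw [hP, Polynomial.eval_map, show (t : ℝ) = algebraMap ℚ ℝ (t : ℚ) from (map_natCast _ t).symm,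
      Polynomial.eval₂_at_apply]
    exact this.symm
  rw [tendsto_nhds_unique he h2]
  have hne : (c.factorial : ℝ) * P.leadingCoeff ≠ 0 :=
    mul_ne_zero (Nat.cast_ne_zero.2 c.factorial_ne_zero)
      (Polynomial.leadingCoeff_ne_zero.2 (Polynomial.map_ne_zero hR0))
  exact lt_of_le_of_ne (ge_of_tendsto h2 (Eventually.of_forall fun t => by positivity)) hne.symm

/-- `χ` is symmetric. -/
theorem chi_comm {B : Type u} [CommRing B] (M N : Type u) [AddCommGroup M] [Module B M] [AddCommGroup N] [Module B N] :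
    IntMult.chi B M N = IntMult.chi B N M := by
  refine finsum_congr fun i => ?_
  obtain ⟨e⟩ := Groth.Agent.CAlgOdd.TorSymm.nonempty_flip (R := B) i
  congr 3
  exact ((e.app (ModuleCat.of B M)).app (ModuleCat.of B N)).toLinearEquiv.length_eq

/-- `(A/Q) / J (A/Q) = A / (Q + J)`. -/
theorem length_quot_quot {B : Type u} [CommRing B] (Q J : Ideal B) :
    Module.length B ((B ⧸ Q) ⧸ (J • ⊤ : Submodule B (B ⧸ Q))) = Module.length B (B ⧸ (Q ⊔ J)) := by
  have e2 : (J • ⊤ : Submodule B (B ⧸ Q)) = Submodule.map (Submodule.mkQ Q) J := by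
    rw [← Submodule.range_mkQ Q, LinearMap.range_eq_map, ← Submodule.map_smul'']
    congr 1
    rw [smul_eq_mul, Ideal.mul_top]
  exact ((Submodule.quotEquivOfEq _ _ e2).trans (Submodule.quotientQuotientEquivQuotientSup Q J)).length_eq

/-- Tor multiplicity against a regular sequence which is a system of parameters on a quotient. -/
theorem main (Q : Ideal A) (hQ : Q ≠ ⊤) {c : ℕ} (g : Fin c → A)
    (hreg : RingTheory.Sequence.IsWeaklyRegular A (List.ofFn g)) (hg : ∀ i, g i ∈ maximalIdeal A)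
    (hJ : ∃ m : ℕ, maximalIdeal A ^ m ≤ Q ⊔ Ideal.span (Set.range g))
    (hdim : (c : WithBot ℕ∞) ≤ ringKrullDim (A ⧸ Q)) :
    Tendsto (fun t : ℕ => (c.factorial : ℝ) *
      ((Module.length A (A ⧸ (Q ⊔ Ideal.span (Set.range g) ^ t))).toNat : ℝ) / (t : ℝ) ^ c) atTop
      (𝓝 (IntMult.chi A (A ⧸ Q) (A ⧸ Ideal.span (Set.range g)) : ℝ)) ∧
    0 < IntMult.chi A (A ⧸ Q) (A ⧸ Ideal.span (Set.range g)) := by
  haveI : Nontrivial (A ⧸ Q) := Ideal.Quotient.nontrivial_iff.2 hQ
  have hfl : IsFiniteLength A ((A ⧸ Q) ⧸ (Ideal.span (Set.range g) • ⊤ : Submodule A (A ⧸ Q))) := by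
    refine Module.length_ne_top_iff.1 ?_
    rw [length_quot_quot]
    refine HSLib.length_ne_top_of_forall_isMaximal fun p hp => ?_
    rw [Module.support_eq_zeroLocus, Ideal.annihilator_quotient] at hp
    obtain ⟨m, hm⟩ := hJ
    have h1 : maximalIdeal A ^ m ≤ p.asIdeal := hm.trans hp
    have h2 : maximalIdeal A ≤ p.asIdeal := p.isPrime.le_of_pow_le h1
    exact (maximalIdeal.isMaximal A).eq_of_le p.isPrime.ne_top h2 ▸ maximalIdeal.isMaximal A
  have hflo : IsFiniteLength A ((A ⧸ Q) ⧸ (Ideal.ofList (List.ofFn g) • ⊤ : Submodule A (A ⧸ Q))) := by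
    rw [H1KoszulEuler.span_ofFn]; exact hfl
  have h := tendsto_samuel (A ⧸ Q) (List.ofFn g) hflo
  rw [← chi_eq (List.ofFn g) hreg (A ⧸ Q), List.length_ofFn, H1KoszulEuler.span_ofFn, chi_comm] at h
  have hpos := limit_pos (A ⧸ Q) g hg hfl
    (by rw [Module.supportDim_quotient_eq_ringKrullDim]; exact hdim) h
  refine ⟨h.congr fun t => ?_, by exact_mod_cast hpos⟩
  rw [length_quot_quot]

end Groth.Agent.SamuelKoszul
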